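import Cfsg.Agent.Lib.Spor.SchurCert.PermBridge
import Cfsg.Agent.Lib.Spor.Mults.MTwelve.Data

/-!
The certificate at the prime 2: a polycyclic sequence of a Sylow subgroup and conjugations killing the tails.
-/

set_option autoImplicit false
set_option maxRecDepth 100000
set_option maxHeartbeats 0

namespace CfsgLib.Spor.Mults.MTwelve.P2

open CfsgLib.Spor.SchurCert

/-- The Sylow elements. -/
def sw : List (List ℕ) := [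
    [97, 15, 92, 60, 59],
    [9, 95, 26, 47, 90],
    [9, 38, 26, 73, 57],
    [30, 38, 36, 47, 6],
    [9, 28, 65, 60, 59],
    [30, 28, 93, 49, 89]]

/-- The conjugating elements. -/
def gw : List (List ℕ) := [
    [96, 66, 64, 73, 88],
    [30, 28, 24, 60, 90]]

/-- The certificate. -/
def cert : SchurCert.Cert where
  p := 2
  m := 6
  N := 4
  rules := [
    ([0, 0], [3, 4, 5]),
    ([1, 1], []),
    ([2, 2], [3]),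
    ([3, 3], []),
    ([4, 4], [5]),
    ([5, 5], []),
    ([1, 0], [0, 1, 3, 4, 5]),
    ([2, 0], [0, 2, 4, 5]),
    ([2, 1], [1, 2, 3]),
    ([3, 0], [0, 3, 5]),
    ([3, 1], [1, 3]),
    ([3, 2], [2, 3]),
    ([4, 0], [0, 4, 5]),
    ([4, 1], [1, 4, 5]),
    ([4, 2], [2, 4]),
    ([4, 3], [3, 4]),
    ([5, 0], [0, 5]),
    ([5, 1], [1, 5]),
    ([5, 2], [2, 5]),
    ([5, 3], [3, 5]),
    ([5, 4], [4, 5])]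
  maps := [
    [([1, 4], [1, 4]), ([3], [3]), ([5], [1, 3, 4, 5])],
    [([0, 2], [4, 5]), ([1, 2], [1, 2]), ([3], [1, 2, 3]), ([4], [0, 2, 5]), ([5], [5])]]
  overlaps := [
    ([0, 0, 0], [(0, 0), (16, 2), (12, 1), (9, 0), (20, 2), (5, 3)], [(0, 1)]),
    ([1, 1, 0], [(1, 0)], [(6, 1), (6, 0), (17, 4), (13, 3), (10, 2), (1, 1), (5, 3), (15, 2), (3, 1), (4, 1), (5, 1)]),
    ([2, 2, 2], [(2, 0), (11, 0)], [(2, 1)]),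
    ([2, 2, 0], [(2, 0), (9, 0)], [(7, 1), (7, 0), (18, 3), (14, 2), (2, 1), (20, 3), (4, 2), (5, 2)]),
    ([2, 1, 0], [(8, 0), (9, 2), (7, 1), (6, 0), (18, 4), (14, 3), (11, 2), (20, 5), (4, 4), (5, 4), (19, 4), (3, 3), (5, 3)], [(6, 1), (7, 0), (17, 3), (13, 2), (8, 1), (5, 5), (15, 4), (3, 3), (4, 3), (5, 3)]),
    ([3, 3, 0], [(3, 0)], [(9, 1), (9, 0), (19, 2), (3, 1), (5, 1)]),
    ([3, 0, 0], [(0, 1), (3, 0)], [(9, 0), (16, 2), (9, 1), (0, 0), (19, 2), (15, 1), (3, 0), (5, 1)]),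
    ([3, 1, 0], [(10, 0), (9, 1), (6, 0), (19, 4), (15, 3), (3, 2), (5, 3)], [(6, 1), (9, 0), (17, 2), (10, 1), (19, 3), (3, 2), (20, 2), (5, 3)]),
    ([3, 2, 0], [(11, 0), (9, 1), (7, 0), (19, 3), (15, 2), (5, 4)], [(7, 1), (9, 0), (18, 2), (11, 1), (20, 3), (5, 4)]),
    ([4, 4, 4], [(4, 0), (20, 0)], [(4, 1)]),
    ([4, 1, 0], [(13, 0), (16, 2), (12, 1), (6, 0), (20, 4), (4, 3), (5, 3), (5, 3)], [(6, 1), (12, 0), (17, 2), (13, 1), (5, 3), (15, 2), (4, 3), (5, 3)]),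
    ([4, 4, 2], [(4, 0), (18, 0)], [(14, 1), (14, 0), (4, 1)]),
    ([4, 4, 3], [(4, 0), (19, 0)], [(15, 1), (15, 0), (4, 1)])]
  fuses := [
    ⟨0, [2, 0], [0, 2], [(17, 0), (20, 1)], [], [(17, 3), (13, 2), (10, 1), (1, 0), (5, 2), (4, 1)], [(13, 1), (1, 0), (19, 1), (15, 0), (20, 2), (4, 1), (5, 1)]⟩,
    ⟨0, [2, 2], [], [(5, 0)], [], [(17, 3), (13, 2), (10, 1), (1, 0), (5, 2), (15, 1), (3, 0), (4, 0), (5, 0)], []⟩,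
    ⟨1, [0, 0], [4], [(7, 1), (0, 0), (18, 2), (14, 1), (11, 0), (20, 3), (4, 2), (5, 2), (18, 2), (11, 1), (2, 0), (3, 0)], [], [(20, 1), (4, 0), (5, 0)], []⟩,
    ⟨1, [1, 0], [0, 1, 4], [(7, 1), (6, 0), (18, 4), (14, 3), (11, 2), (20, 5), (4, 4), (5, 4), (18, 4), (11, 3), (2, 2), (3, 2)], [(8, 1), (11, 3), (2, 2), (3, 2)], [], [(17, 1), (13, 0), (5, 2), (14, 1)]⟩,
    ⟨1, [2, 0], [0, 2, 4], [(9, 0), (18, 2), (11, 1)], [], [], [(17, 1), (13, 0), (5, 2), (14, 1), (15, 2)]⟩,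
    ⟨1, [2, 2], [], [(3, 0)], [], [(10, 2), (8, 1), (1, 0), (3, 1), (2, 0), (3, 0)], []⟩]
  adj := [
    [(8, 1), (9, 1), (23, 1), (27, 1), (29, 1)],
    [(7, 1), (8, 1), (9, 1), (23, 1)],
    [(7, 1), (8, 1), (9, 1), (23, 1), (29, 1)],
    [(8, 1)],
    [(7, 1), (9, 3)],
    [(9, 1)]]
  base := [
    ([(14, 1)], 2, [(5, 3), (6, 1), (7, 3), (8, 1), (9, 3), (10, 1), (11, 1), (12, 3)])]
  dense := [
    [0, 0, 0, 0, 0, 1, 0, 0, 0, 1, 0, 0, 1, 0, 0, 0, 1, 0, 0, 0, 1],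
    [0, 0, 0, 3, 3, 2, 2, 0, 0, 0, 3, 0, 0, 3, 0, 3, 0, 3],
    [0, 0, 0, 0, 0, 0, 0, 0, 0, 0, 0, 1],
    [0, 0, 0, 0, 3, 3, 0, 2, 0, 1, 0, 0, 0, 0, 3, 0, 0, 0, 3, 0, 3],
    [0, 0, 0, 0, 0, 0, 0, 0, 0, 1, 0, 1, 0, 3, 1, 3, 0, 3, 1, 1, 1],
    [0, 0, 0, 0, 0, 3, 0, 0, 0, 2, 0, 0, 0, 0, 0, 0, 0, 0, 0, 3],
    [0, 0, 0, 0, 0, 3, 0, 0, 0, 2, 0, 0, 0, 0, 0, 3, 3, 0, 0, 3],
    [0, 0, 0, 0, 0, 0, 0, 0, 0, 0, 0, 0, 0, 0, 0, 1, 0, 3, 0, 0, 3],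
    [0, 0, 0, 0, 0, 0, 0, 0, 0, 0, 0, 0, 0, 0, 0, 1, 0, 0, 3, 1, 3],
    [0, 0, 0, 0, 0, 0, 0, 0, 0, 0, 0, 0, 0, 0, 0, 0, 0, 0, 0, 0, 1],
    [0, 0, 0, 0, 0, 0, 0, 0, 0, 0, 0, 0, 0, 0, 0, 3, 1, 3, 0, 0, 1],
    [0, 0, 0, 0, 0, 0, 0, 0, 0, 0, 0, 0, 0, 0, 2, 0, 0, 0, 1],
    [0, 0, 0, 0, 0, 0, 0, 0, 0, 0, 0, 0, 0, 0, 0, 2, 0, 0, 0, 1],
    [0, 0, 0, 0, 0, 0, 0, 0, 0, 0, 3, 0, 0, 0, 0, 1, 0, 0, 0, 1, 2],
    [0, 3, 0, 3, 3, 3, 0, 0, 0, 0, 3, 0, 0, 3, 0, 3, 0, 3, 0, 0, 0, 0, 0, 2],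
    [1, 0, 1, 1, 0, 0, 0, 1, 0, 0, 0, 2, 0, 0, 1, 0, 0, 0, 2, 0, 0, 0, 0, 0, 0, 0, 0, 2, 0, 0, 0, 1],
    [0, 0, 0, 0, 1, 2, 1, 1, 3, 0, 0, 1, 0, 1, 2, 0, 0, 1, 2, 0, 1, 0, 0, 0, 0, 0, 0, 0, 0, 0, 0, 1],
    [0, 0, 0, 0, 0, 1, 0, 0, 0, 1, 0, 1, 0, 1, 1, 1, 0, 1, 1, 0, 0, 0, 0, 0, 0, 0, 0, 0, 0, 0, 0, 1],
    [0, 3, 3, 3, 0, 0, 0, 0, 3, 0, 3, 0, 0, 0, 0, 0, 0, 0, 0, 0, 0, 0, 0, 0, 0, 0, 0, 0, 0, 2]]
  tgt := [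
    ([(0, 1)], [(1, 1), (3, 2), (4, 3), (5, 3), (6, 3), (7, 1), (9, 1), (10, 3), (13, 3), (14, 3), (15, 1), (16, 2), (17, 1), (18, 1)]),
    ([], [(1, 1), (3, 2), (5, 3), (12, 3), (14, 3), (16, 2), (17, 2)]),
    ([], [(2, 1), (3, 3), (4, 3), (5, 2), (6, 2), (7, 2), (10, 2), (12, 1), (14, 1), (18, 3)]),
    ([], [(1, 3), (2, 3), (3, 3), (4, 1), (5, 2), (6, 3), (7, 1), (10, 3), (12, 3), (13, 1), (16, 2), (17, 2)]),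
    ([(0, 3)], [(3, 3), (5, 2), (6, 3), (7, 1), (8, 1), (9, 2), (10, 3)]),
    ([], [(5, 1), (6, 2), (7, 2), (10, 2), (12, 3)]),
    ([], [(3, 1), (5, 3), (6, 1), (7, 3), (9, 2), (10, 1), (16, 1), (17, 3)]),
    ([], []),
    ([], []),
    ([], []),
    ([], [(5, 1), (6, 3), (7, 1), (10, 3), (12, 1), (13, 3)]),
    ([], [(2, 1)]),
    ([], [(0, 1), (5, 1), (7, 1), (9, 1), (10, 3), (12, 1)]),
    ([(0, 1)], [(2, 1), (4, 3), (5, 1), (6, 3), (7, 2), (8, 3), (9, 3), (10, 3), (12, 2)]),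
    ([(0, 1)], []),
    ([], [(5, 3), (6, 1), (7, 3), (9, 2), (10, 1)]),
    ([], [(5, 2), (6, 2), (7, 1), (9, 2), (10, 3)]),
    ([], [(5, 3), (6, 1), (7, 2), (9, 1), (10, 1)]),
    ([], [(5, 1), (6, 3), (7, 1), (8, 3), (9, 1), (10, 3), (12, 1)]),
    ([], [(5, 2), (6, 2), (7, 2), (10, 2), (12, 1)]),
    ([], [(9, 1)])]

/-- Orbits inside the subgroup. -/
def orbits : List (ℕ × List (ℕ × List ℕ)) := [
    (1, [(1, []), (4, [0, 4, 5]), (6, [5]), (8, [0, 4]), (12, [4]), (13, [0, 5]), (16, [0]), (18, [4, 5])]),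
    (0, [(0, []), (2, [2, 3, 4]), (3, [3, 5]), (9, [1, 2])]),
    (2, [(2, []), (9, [1, 3, 4, 5])])]

theorem ident_ok : identPerm 5 CfsgLib.Spor.Mults.MTwelve.eltRows 98 CfsgLib.Spor.Mults.MTwelve.basePts cert sw gw = true := by decide +kernel

theorem sub_ok : subPermOK 24 5 CfsgLib.Spor.Mults.MTwelve.eltRows sw [] orbits = true := by decide +kernel

theorem shape_ok : cert.shapeOK = true := by decide +kernel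

theorem lin_ok : cert.linOK = true := by decide +kernel

theorem prod_ok : cert.p ^ cert.m ≤ (orbits.map fun e => e.2.length).prod := by decide +kernel

end CfsgLib.Spor.Mults.MTwelve.P2
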