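import Cfsg.Agent.Lib.Spor.SchurCert.PermBridge
import Cfsg.Agent.Lib.Spor.Mults.MTwelve.Data

/-!
The certificate at the prime 3: a polycyclic sequence of a Sylow subgroup and conjugations killing the tails.
-/

set_option autoImplicit false
set_option maxRecDepth 100000
set_option maxHeartbeats 0

namespace CfsgLib.Spor.Mults.MTwelve.P3

open CfsgLib.Spor.SchurCert

/-- The Sylow elements. -/
def sw : List (List ℕ) := [
    [97, 66, 6, 73, 89],
    [17, 28, 93, 73, 6],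
    [96, 95, 65, 61, 58]]

/-- The conjugating elements. -/
def gw : List (List ℕ) := [
    [9, 27, 36, 6, 6],
    [1, 66, 65, 47, 57],
    [97, 38, 37, 73, 87]]

/-- The certificate. -/
def cert : SchurCert.Cert where
  p := 3
  m := 3
  N := 3
  rules := [
    ([0, 0, 0], []),
    ([1, 1, 1], []),
    ([2, 2, 2], []),
    ([1, 0], [0, 1, 2]),
    ([2, 0], [0, 2]),
    ([2, 1], [1, 2])]
  maps := [
    [([1], [1, 1])],
    [([0, 1, 2, 2], [0, 0, 1, 1, 2, 2])],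
    [([0], [0, 0, 2, 2]), ([1], [1, 1, 2]), ([2], [2])]]
  overlaps := [
    ([1, 1, 1, 0], [(1, 0)], [(3, 2), (3, 1), (3, 0), (5, 2), (5, 4), (5, 3), (1, 1), (2, 1)])]
  fuses := [
    ⟨0, [0, 0, 0], [], [(1, 0)], [], [(1, 0), (1, 0)], []⟩,
    ⟨1, [0, 0, 0], [], [(4, 3), (4, 2), (3, 1), (2, 3), (4, 5), (4, 4), (3, 3), (3, 2), (0, 0), (5, 1), (2, 2), (5, 2), (1, 0), (2, 0)], [], [(4, 5), (4, 4), (3, 3), (3, 2), (0, 0), (5, 1), (2, 2), (4, 2), (3, 1), (3, 0), (5, 2), (2, 3), (1, 1), (4, 3), (4, 2), (3, 1), (2, 3), (3, 2), (0, 0), (5, 1), (5, 2), (1, 0), (2, 0)], []⟩,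
    ⟨2, [0, 0, 0], [], [(0, 0)], [], [(4, 3), (4, 2), (0, 0), (4, 1), (4, 0), (2, 1), (4, 1), (4, 2), (0, 0), (2, 0)], []⟩,
    ⟨2, [2, 0], [0, 2], [(4, 0)], [], [(4, 0), (4, 1), (2, 2)], [(2, 2)]⟩]
  adj := [
    [],
    [],
    [(3, 1)]]
  base := []
  dense := [
    [0, 0, 2],
    [0, 2],
    [2, 2, 2, 0, 2, 1],
    [2, 0, 1],
    [0, 0, 0, 0, 2]]
  tgt := [
    ([], [(0, 2), (3, 2)]),
    ([], [(1, 2)]),
    ([], [(0, 2)]),
    ([], []),
    ([], [(4, 2)]),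
    ([], [(0, 1), (1, 2), (2, 1), (3, 2), (4, 2)])]

/-- Orbits inside the subgroup. -/
def orbits : List (ℕ × List (ℕ × List ℕ)) := [
    (1, [(0, [0, 1]), (1, []), (2, [2, 2]), (3, [1, 1]), (6, [0, 1, 2]), (9, [2]), (13, [1, 2]), (16, [0]), (18, [1])]),
    (0, [(0, []), (3, [0, 0, 1, 2, 2]), (6, [0, 1, 1])])]

theorem ident_ok : identPerm 5 CfsgLib.Spor.Mults.MTwelve.eltRows 98 CfsgLib.Spor.Mults.MTwelve.basePts cert sw gw = true := by decide +kernel

theorem sub_ok : subPermOK 24 5 CfsgLib.Spor.Mults.MTwelve.eltRows sw [] orbits = true := by decide +kernel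

theorem shape_ok : cert.shapeOK = true := by decide +kernel

theorem lin_ok : cert.linOK = true := by decide +kernel

theorem prod_ok : cert.p ^ cert.m ≤ (orbits.map fun e => e.2.length).prod := by decide +kernel

end CfsgLib.Spor.Mults.MTwelve.P3
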