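/-
Lifts of the generators of M12 to permutations commuting with a shift.
-/
import Cfsg.Agent.Lib.Spor.Mults.Cover
import Cfsg.Agent.Lib.Spor.Mults.MTwelve.Rels

namespace CfsgLib.Spor.Mults.MTwelve

open CfsgLib.Spor.TC

def lift0 : Tbl :=
  .bin (.tip 0x100e1216140c0a0402080600) (.none)

def lift1 : Tbl :=
  .bin (.tip 0x16140c100812060e0a040002) (.none)

def lift2 : Tbl :=
  .bin (.tip 0x131417080d0f0a1006000204) (.none)

def lift3 : Tbl :=
  .bin (.tip 0x16110a150e0612080c040002) (.none)

/-- The table of a lift at representatives. -/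
noncomputable def lift (x : ℕ) : Tbl :=
  (Bool.rec ((Bool.rec (lift3) (lift2) (Nat.blt x 3))) ((Bool.rec (lift1) (lift0) (Nat.blt x 1))) (Nat.blt x 2))

/-- The image of a point. -/
noncomputable def liftT (x c : ℕ) : ℕ :=
  (fun v => Nat.add (Nat.mul 2 (Nat.div v 2)) (Nat.mod (Nat.add (Nat.mod v 2) (Nat.mod c 2)) 2))
    ((lift x).get 8 (Nat.div c 2))

/-- The shift. -/
noncomputable def shift (c : ℕ) : ℕ :=
  Nat.add (Nat.mul 2 (Nat.div c 2)) (Nat.mod (Nat.add (Nat.mod c 2) 1) 2)

/-- The representatives. -/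
noncomputable def rep (i : ℕ) : ℕ := Nat.mul 2 i

/-- The index of the representative of a point. -/
noncomputable def idx (c : ℕ) : ℕ := Nat.div c 2

/-- The distance from the representative. -/
noncomputable def dist (c : ℕ) : ℕ := Nat.mod c 2

/-- The lifts with the exponents of squares and relators. -/
noncomputable def lifts : Cover.Data where
  N := 24
  d := 2
  k := 4
  R := 12
  T := liftT
  zf := shift
  rep := rep
  idx := idx
  sh := dist
  sq := [0, 0, 0, 0]
  rels := rels4.zip [0, 0, 0, 0, 0, 0, 0, 0, 0, 0, 0, 1]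

end CfsgLib.Spor.Mults.MTwelve
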