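/-
The stem extension of M12.
-/
import Cfsg.Agent.Lib.Spor.Mults.MTwelve.Group
import Cfsg.Agent.Lib.Spor.Mults.MTwelve.PresBound
import Cfsg.Agent.Lib.Spor.Mults.MTwelve.CheckRep0
import Cfsg.Agent.Lib.Spor.Mults.MTwelve.CheckPoint0

set_option maxRecDepth 20000

namespace CfsgLib.Spor.Mults.MTwelve

open CfsgLib.Spor.TC

/-- The involutions as words in the packed elements. -/
def genWords : List (List ℕ) := [[6, 6, 6, 91, 57], [96, 15, 92, 91, 88], [6, 27, 26, 47, 90], [7, 38, 92, 47, 90]]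

/-- Orbits along the base as words in the involutions. -/
def genOrbits : List (ℕ × List (ℕ × List ℕ)) := [
  (1, [
    (0, [3, 0, 1]),
    (1, []),
    (2, [0, 0, 3, 2]),
    (3, [1, 2, 3, 2]),
    (4, [0, 2, 1]),
    (6, [3, 2, 3, 1]),
    (8, [2, 3, 0, 1]),
    (9, [1, 2]),
    (12, [1, 2, 3, 1]),
    (13, [0, 2, 3]),
    (16, [3, 0, 2, 3]),
    (18, [1, 3])]),
  (0, [
    (0, []),
    (2, [2, 3, 2, 1, 3, 2, 0, 3]),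
    (3, [2, 3, 2, 1, 2, 0, 3]),
    (4, [1, 2, 1, 2]),
    (6, [2, 3, 0, 3]),
    (8, [2, 0]),
    (9, [3, 2, 0, 3, 2, 0, 2, 1, 3]),
    (12, [0, 2]),
    (13, [2, 0, 2]),
    (16, [1, 0, 3, 1, 0, 1, 2]),
    (18, [3, 0, 3])]),
  (2, [
    (2, []),
    (3, [3, 0, 2, 1, 2, 3, 2, 1, 2, 0, 1, 3, 0, 1]),
    (4, [3, 0, 1, 0, 1, 0, 3]),
    (6, [2, 3, 2, 1, 2, 3]),
    (8, [1, 3, 2, 3, 2, 0, 3, 1]),
    (9, [0, 3, 1, 0, 3, 1]),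
    (12, [2, 1, 2, 1, 2, 1, 2, 1, 2]),
    (13, [3, 1, 0, 3, 2, 1]),
    (16, [0, 3, 2, 1, 3, 2, 3]),
    (18, [2, 0, 3, 0, 3, 2])]),
  (3, [
    (3, []),
    (4, [2, 1, 2, 1, 2, 1, 2, 1, 2, 3, 0, 2, 3, 1, 2, 3, 0, 2, 0, 2]),
    (6, [1, 2, 0, 2, 0, 2, 1]),
    (8, [3, 0, 1, 0, 1, 0, 3, 2, 0, 3, 2, 1, 2, 0, 3, 2]),
    (9, [3, 0, 2, 3, 1, 2, 3, 2, 1, 3, 2, 1, 2, 1, 0, 2, 3]),
    (12, [3, 0, 1, 0, 1, 0, 3, 2, 1, 2, 1, 3, 2, 0, 3, 0, 2, 1, 3]),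
    (13, [0]),
    (16, [1, 3, 0, 2, 3, 2, 3, 1, 0, 1, 2, 1]),
    (18, [1, 0, 3, 1, 0, 2, 1, 2, 3, 2, 1, 2, 0, 3, 0, 1, 3, 0, 3, 2, 1])]),
  (4, [
    (4, []),
    (6, [1, 2, 1, 0, 1, 3, 2, 3, 2, 0, 3, 1, 3, 2, 3, 1, 2, 3, 0, 1, 2, 0, 2, 0, 1]),
    (8, [0, 3, 2, 3, 1, 2, 3, 0, 3, 0, 2, 1, 2, 3, 1, 2, 1, 0, 2]),
    (9, [2, 3, 0, 2, 1, 2, 3, 0, 2, 3, 0, 1, 0, 1, 0, 3, 2, 1, 2, 1, 2, 1, 2, 1, 2, 3, 0, 2, 1, 2, 3, 2, 1, 2, 0, 1, 0, 3, 0, 1]),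
    (12, [3, 2, 3, 1, 2, 3, 0, 3, 0, 3, 1, 0, 3, 1, 0, 2, 1]),
    (13, [3, 2, 0, 1, 2, 1, 2, 3, 1, 2, 3, 2, 1, 3, 2, 0, 3, 1, 2, 3, 0, 1, 0, 2, 3, 1, 2, 3, 2, 1, 2, 0, 2, 0, 1, 0, 2]),
    (16, [1, 2, 1, 0, 1, 3, 2, 3, 2, 0, 3, 0, 3, 1, 0, 2, 1, 2, 3, 2, 1, 2, 3, 2, 3, 1, 0, 1, 3, 2]),
    (18, [1, 2, 1, 0, 1, 3, 2, 3, 2, 0, 3, 1, 3, 0, 1, 0, 1, 3, 1, 2, 0, 2, 0, 1, 2])])]

theorem lifts_ok : lifts.OK := by
  refine ⟨?_, ?_, by decide +kernel⟩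
  · intro c hc
    exact allFrom_spec pointRange0 c (by omega) (by change c < 24 at hc; omega)
  · intro c hc
    exact allFrom_spec repRange0 c (by omega) (by change c < 12 at hc; omega)

theorem sat_check : satOK 24 5 eltRows 98 basePts genWords rels4 genOrbits = true := by decide +kernel

theorem orbit_count : (transIdx.map List.length).prod ≤ (genOrbits.map fun e => e.2.length).prod := by decide +kernel

/-- The cover. -/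
theorem exists_cover (hperf : commutator ↥H = ⊤) :
    ∃ (Γ : Type) (_ : Group Γ) (_ : Finite Γ) (σ : Γ →* ↥H),
      Cfsg.IsStemExtension σ ∧ IsCyclic σ.ker ∧ Nat.card σ.ker = 2 := by
  obtain ⟨g, hsat, hgen⟩ := packed.exists_sat sat_check orbit_count
  have hr : lifts.rels.map Prod.fst = rels4 := by decide +kernel
  refine Cover.exists_cover lifts_ok hperf (g := g) (by rw [hr]; exact hsat) hgen ?_ (ps := [0]) ?_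
    (cs := [0, 0, 0, 0]) (cr := [0, 0, 0, 0, 0, 0, 0, 0, 0, 0, 0, 1]) ?_
  · rw [hr, packed.card, chain_size]
    exact card4
  · decide +kernel
  · decide +kernel

end CfsgLib.Spor.Mults.MTwelve
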