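import Cfsg.Agent.Lib.Spor.Mults.Transport
import Cfsg.Agent.Lib.Spor.Mults.MTwelve.CoverBuild
import Cfsg.Agent.Lib.Spor.Mults.MTwelve.Bound
import Cfsg.Agent.Lib.Spor.MathieuSimple

/-!
The Schur multiplier of M12 has order two.
-/

set_option autoImplicit false

namespace CfsgLib.Spor.Mults.MTwelve

open Cfsg CfsgLib.Spor MulAction
open scoped Pointwise

theorem isSimpleGroup_M12 : IsSimpleGroup ↥Spor.M12 := by
  haveI := isSimpleGroup_stabilizer_dodecad squareDodecad_mem
  have e : (stabilizer M24 Spor.squareDodecad).map M24.subtype = Spor.M12 := by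
    ext g
    rw [mem_map_stabilizer, mem_M12]
  exact (((Subgroup.equivMapOfInjective _ _ M24.subtype_injective).trans (MulEquiv.subgroupCongr e)).symm).isSimpleGroup

theorem commutator_H : commutator ↥H = ⊤ := by
  haveI := isSimpleGroup_M12
  haveI : IsSimpleGroup ↥H := equivH.symm.isSimpleGroup
  exact commutator_eq_top_of_card (by rw [card_group]; norm_num)

theorem multiplier_M12 : Cfsg.HasCyclicSchurMultiplier ↥Spor.M12 2 :=
  hasCyclic_of equivH (exists_cover commutator_H) fun _ _ _ _ hσ => cyclic_of_dvd_prime Nat.prime_two (card_ker_dvd hσ)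

end CfsgLib.Spor.Mults.MTwelve
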